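import Cfsg.Agent.H298.EOCard
import Cfsg.Agent.S2469
import Cfsg.Agent.H912.CrossList_m3
import Cfsg.Agent.H175.BdSp_m3
import Cfsg.Agent.H340.ExcEmb
import Cfsg.Agent.H340.OddLie
import Cfsg.Agent.H284.SepOrd
import Cfsg.Agent.OrdDiv.Table
import Cfsg.Agent.H284.FStd
import Cfsg.Agent.SignalizersComponents.StandardTrichotomy
import Cfsg.Agent.Prune
set_option linter.all false
prune_inst 0x7f00000000000000000000000000000000000000000000000000000000000000000000000000000000000000000000000000000000000000000000000000000000000000000000000000000000000000003fffffffffffffffffffffffffffbeffbdffffffff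
open scoped Cfsg.Agent.FastGrp

-- part: H298/EORows
section
/-!
# The `r`-test for the small classical groups of characteristic two (helper298)
-/

set_option autoImplicit false
set_option linter.unusedSectionVars false

namespace Cfsg.Agent.H298.EORows

open Cfsg Cfsg.Agent.OrdDiv Cfsg.Agent.H298.EOArith Cfsg.Agent.H298.EOAlm Cfsg.Agent.H298.EOCard

variable {F : Type*} [Field F] [Fintype F]

theorem psl_4_2 (hF : Fintype.card F = 2)
    (hs : IsSimpleGroup (Matrix.ProjectiveSpecialLinearGroup (Fin 4) F)) (hna : ¬ IsMulCommutative (Matrix.ProjectiveSpecialLinearGroup (Fin 4) F)) :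
    Row 0 (Matrix.ProjectiveSpecialLinearGroup (Fin 4) F) :=
  psl_row (f := 1) (N := 20160) (a := 7) (b := 0)
    (l := [(3, 2, 7), (5, 1, 7), (7, 1, 5)])
    hF (by norm_num) (by norm_num) (by norm_num) (by decide +kernel) (by decide +kernel) hs hna

theorem psl_5_2 (hF : Fintype.card F = 2)
    (hs : IsSimpleGroup (Matrix.ProjectiveSpecialLinearGroup (Fin 5) F)) (hna : ¬ IsMulCommutative (Matrix.ProjectiveSpecialLinearGroup (Fin 5) F)) :
    Row 0 (Matrix.ProjectiveSpecialLinearGroup (Fin 5) F) :=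
  psl_row (f := 1) (N := 9999360) (a := 11) (b := 0)
    (l := [(3, 2, 7), (5, 1, 7), (7, 1, 5), (31, 1, 7)])
    hF (by norm_num) (by norm_num) (by norm_num) (by decide +kernel) (by decide +kernel) hs hna

theorem psl_6_2 (hF : Fintype.card F = 2)
    (hs : IsSimpleGroup (Matrix.ProjectiveSpecialLinearGroup (Fin 6) F)) (hna : ¬ IsMulCommutative (Matrix.ProjectiveSpecialLinearGroup (Fin 6) F)) :
    Row 0 (Matrix.ProjectiveSpecialLinearGroup (Fin 6) F) :=
  psl_row (f := 1) (N := 20158709760) (a := 16) (b := 0)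
    (l := [(3, 4, 31), (5, 1, 7), (7, 2, 31), (31, 1, 7)])
    hF (by norm_num) (by norm_num) (by norm_num) (by decide +kernel) (by decide +kernel) hs hna

theorem psl_7_2 (hF : Fintype.card F = 2)
    (hs : IsSimpleGroup (Matrix.ProjectiveSpecialLinearGroup (Fin 7) F)) (hna : ¬ IsMulCommutative (Matrix.ProjectiveSpecialLinearGroup (Fin 7) F)) :
    Row 0 (Matrix.ProjectiveSpecialLinearGroup (Fin 7) F) :=
  psl_row (f := 1) (N := 163849992929280) (a := 22) (b := 0)
    (l := [(3, 4, 31), (5, 1, 7), (7, 2, 31), (31, 1, 7), (127, 1, 5)])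
    hF (by norm_num) (by norm_num) (by norm_num) (by decide +kernel) (by decide +kernel) hs hna

theorem psl_8_2 (hF : Fintype.card F = 2)
    (hs : IsSimpleGroup (Matrix.ProjectiveSpecialLinearGroup (Fin 8) F)) (hna : ¬ IsMulCommutative (Matrix.ProjectiveSpecialLinearGroup (Fin 8) F)) :
    Row 0 (Matrix.ProjectiveSpecialLinearGroup (Fin 8) F) :=
  psl_row (f := 1) (N := 5348063769211699200) (a := 29) (b := 0)
    (l := [(3, 5, 17), (5, 2, 7), (7, 2, 17), (17, 1, 5), (31, 1, 7), (127, 1, 5)])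
    hF (by norm_num) (by norm_num) (by norm_num) (by decide +kernel) (by decide +kernel) hs hna

theorem psl_4_4 (hF : Fintype.card F = 4)
    (hs : IsSimpleGroup (Matrix.ProjectiveSpecialLinearGroup (Fin 4) F)) (hna : ¬ IsMulCommutative (Matrix.ProjectiveSpecialLinearGroup (Fin 4) F)) :
    Row 0 (Matrix.ProjectiveSpecialLinearGroup (Fin 4) F) :=
  psl_row (f := 2) (N := 987033600) (a := 14) (b := 0)
    (l := [(3, 4, 17), (5, 2, 7), (7, 1, 5), (17, 1, 5)])
    hF (by norm_num) (by norm_num) (by norm_num) (by decide +kernel) (by decide +kernel) hs hna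

theorem psp_3_2 (hF : Fintype.card F = 2)
    (hs : IsSimpleGroup (PSp 3 F)) (hna : ¬ IsMulCommutative (PSp 3 F)) :
    Row 4 (PSp 3 F) :=
  psp_row (f := 1) (N := 1451520) (a := 9) (b := 4)
    (l := [(5, 1, 7), (7, 1, 5)])
    hF (by norm_num) (by norm_num) (by norm_num) (by decide +kernel) (by decide +kernel) hs hna

theorem psp_4_2 (hF : Fintype.card F = 2)
    (hs : IsSimpleGroup (PSp 4 F)) (hna : ¬ IsMulCommutative (PSp 4 F)) :
    Row 0 (PSp 4 F) :=
  psp_row (f := 1) (N := 47377612800) (a := 16) (b := 0)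
    (l := [(3, 5, 17), (5, 2, 7), (7, 1, 5), (17, 1, 5)])
    hF (by norm_num) (by norm_num) (by norm_num) (by decide +kernel) (by decide +kernel) hs hna

theorem psp_5_2 (hF : Fintype.card F = 2)
    (hs : IsSimpleGroup (PSp 5 F)) (hna : ¬ IsMulCommutative (PSp 5 F)) :
    Row 0 (PSp 5 F) :=
  psp_row (f := 1) (N := 24815256521932800) (a := 25) (b := 0)
    (l := [(3, 6, 17), (5, 2, 7), (7, 1, 5), (11, 1, 7), (17, 1, 5), (31, 1, 7)])
    hF (by norm_num) (by norm_num) (by norm_num) (by decide +kernel) (by decide +kernel) hs hna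

theorem psp_6_2 (hF : Fintype.card F = 2)
    (hs : IsSimpleGroup (PSp 6 F)) (hna : ¬ IsMulCommutative (PSp 6 F)) :
    Row 0 (PSp 6 F) :=
  psp_row (f := 1) (N := 208114637736580743168000) (a := 36) (b := 0)
    (l := [(3, 8, 31), (5, 3, 11), (7, 2, 11), (11, 1, 7), (13, 1, 5), (17, 1, 5), (31, 1, 7)])
    hF (by norm_num) (by norm_num) (by norm_num) (by decide +kernel) (by decide +kernel) hs hna

theorem psp_7_2 (hF : Fintype.card F = 2)
    (hs : IsSimpleGroup (PSp 7 F)) (hna : ¬ IsMulCommutative (PSp 7 F)) :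
    Row 0 (PSp 7 F) :=
  psp_row (f := 1) (N := 27930968965434591767112450048000) (a := 49) (b := 0)
    (l := [(3, 9, 31), (5, 3, 11), (7, 2, 11), (11, 1, 7), (13, 1, 5), (17, 1, 5), (31, 1, 7), (43, 1, 5), (127, 1, 5)])
    hF (by norm_num) (by norm_num) (by norm_num) (by decide +kernel) (by decide +kernel) hs hna

theorem psp_3_4 (hF : Fintype.card F = 4)
    (hs : IsSimpleGroup (PSp 3 F)) (hna : ¬ IsMulCommutative (PSp 3 F)) :
    Row 0 (PSp 3 F) :=
  psp_row (f := 2) (N := 4106059776000) (a := 19) (b := 0)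
    (l := [(3, 4, 17), (5, 3, 17), (7, 1, 5), (13, 1, 5), (17, 1, 5)])
    hF (by norm_num) (by norm_num) (by norm_num) (by decide +kernel) (by decide +kernel) hs hna

theorem psu_6_2 (hF : Fintype.card F = 2 ^ 2)
    (hs : IsSimpleGroup (PSU 6 F 2)) (hna : ¬ IsMulCommutative (PSU 6 F 2)) :
    Row 7 (PSU 6 F 2) :=
  psu_row (f := 1) (N := 9196830720) (a := 16) (b := 7)
    (l := [(5, 1, 7), (7, 1, 5), (11, 1, 7)])
    hF (by norm_num) (by norm_num) (by norm_num) (by decide +kernel) (by decide +kernel) hs hna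

theorem psu_7_2 (hF : Fintype.card F = 2 ^ 2)
    (hs : IsSimpleGroup (PSU 7 F 2)) (hna : ¬ IsMulCommutative (PSU 7 F 2)) :
    Row 0 (PSU 7 F 2) :=
  psu_row (f := 1) (N := 227787103272960) (a := 22) (b := 0)
    (l := [(3, 8, 43), (5, 1, 7), (7, 1, 5), (11, 1, 7), (43, 1, 5)])
    hF (by norm_num) (by norm_num) (by norm_num) (by decide +kernel) (by decide +kernel) hs hna

theorem psu_8_2 (hF : Fintype.card F = 2 ^ 2)
    (hs : IsSimpleGroup (PSU 8 F 2)) (hna : ¬ IsMulCommutative (PSU 8 F 2)) :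
    Row 0 (PSU 8 F 2) :=
  psu_row (f := 1) (N := 7434971050829414400) (a := 29) (b := 0)
    (l := [(3, 9, 43), (5, 2, 7), (7, 1, 5), (11, 1, 7), (17, 1, 5), (43, 1, 5)])
    hF (by norm_num) (by norm_num) (by norm_num) (by decide +kernel) (by decide +kernel) hs hna

theorem psu_9_2 (hF : Fintype.card F = 2 ^ 2)
    (hs : IsSimpleGroup (PSU 9 F 2)) (hna : ¬ IsMulCommutative (PSU 9 F 2)) :
    Row 0 (PSU 9 F 2) :=
  psu_row (f := 1) (N := 325473292721108444774400) (a := 37) (b := 0)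
    (l := [(3, 12, 43), (5, 2, 7), (7, 1, 5), (11, 1, 7), (17, 1, 5), (19, 1, 7), (43, 1, 5)])
    hF (by norm_num) (by norm_num) (by norm_num) (by decide +kernel) (by decide +kernel) hs hna

theorem oplus_4_2 (hF : Fintype.card F = 2)
    (hs : IsSimpleGroup (POmega F (quadFormPlus 4 F))) (hna : ¬ IsMulCommutative (POmega F (quadFormPlus 4 F))) :
    Row 6 (POmega F (quadFormPlus 4 F)) :=
  oplus_row (f := 1) (N := 174182400) (a := 13) (b := 6)
    (l := [(5, 2, 7), (7, 1, 5)])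
    hF (by norm_num) (by norm_num) (by norm_num) (by decide +kernel) (by decide +kernel) hs hna

theorem oplus_5_2 (hF : Fintype.card F = 2)
    (hs : IsSimpleGroup (POmega F (quadFormPlus 5 F))) (hna : ¬ IsMulCommutative (POmega F (quadFormPlus 5 F))) :
    Row 0 (POmega F (quadFormPlus 5 F)) :=
  oplus_row (f := 1) (N := 23499295948800) (a := 21) (b := 0)
    (l := [(3, 5, 17), (5, 2, 7), (7, 1, 5), (17, 1, 5), (31, 1, 7)])
    hF (by norm_num) (by norm_num) (by norm_num) (by decide +kernel) (by decide +kernel) hs hna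

theorem oplus_6_2 (hF : Fintype.card F = 2)
    (hs : IsSimpleGroup (POmega F (quadFormPlus 6 F))) (hna : ¬ IsMulCommutative (POmega F (quadFormPlus 6 F))) :
    Row 0 (POmega F (quadFormPlus 6 F)) :=
  oplus_row (f := 1) (N := 50027557148216524800) (a := 31) (b := 0)
    (l := [(3, 8, 31), (5, 2, 7), (7, 2, 11), (11, 1, 7), (17, 1, 5), (31, 1, 7)])
    hF (by norm_num) (by norm_num) (by norm_num) (by decide +kernel) (by decide +kernel) hs hna

theorem oplus_7_2 (hF : Fintype.card F = 2)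
    (hs : IsSimpleGroup (POmega F (quadFormPlus 7 F))) (hna : ¬ IsMulCommutative (POmega F (quadFormPlus 7 F))) :
    Row 0 (POmega F (quadFormPlus 7 F)) :=
  oplus_row (f := 1) (N := 1691555775522928280469504000) (a := 43) (b := 0)
    (l := [(3, 8, 31), (5, 3, 11), (7, 2, 11), (11, 1, 7), (13, 1, 5), (17, 1, 5), (31, 1, 7), (127, 1, 5)])
    hF (by norm_num) (by norm_num) (by norm_num) (by decide +kernel) (by decide +kernel) hs hna

theorem oplus_8_2 (hF : Fintype.card F = 2)
    (hs : IsSimpleGroup (POmega F (quadFormPlus 8 F))) (hna : ¬ IsMulCommutative (POmega F (quadFormPlus 8 F))) :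
    Row 0 (POmega F (quadFormPlus 8 F)) :=
  oplus_row (f := 1) (N := 911666827031785075278550369566720000) (a := 57) (b := 0)
    (l := [(3, 10, 31), (5, 4, 11), (7, 2, 11), (11, 1, 7), (13, 1, 5), (17, 2, 7), (31, 1, 7), (43, 1, 5), (127, 1, 5)])
    hF (by norm_num) (by norm_num) (by norm_num) (by decide +kernel) (by decide +kernel) hs hna

theorem oplus_4_4 (hF : Fintype.card F = 4)
    (hs : IsSimpleGroup (POmega F (quadFormPlus 4 F))) (hna : ¬ IsMulCommutative (POmega F (quadFormPlus 4 F))) :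
    Row 0 (POmega F (quadFormPlus 4 F)) :=
  oplus_row (f := 2) (N := 67010895544320000) (a := 26) (b := 0)
    (l := [(3, 6, 17), (5, 4, 17), (7, 1, 5), (13, 1, 5), (17, 2, 7)])
    hF (by norm_num) (by norm_num) (by norm_num) (by decide +kernel) (by decide +kernel) hs hna

theorem ominus_4_2 (hF : Fintype.card F = 2) {α β : F}
    (hab : ∀ z₁ z₂ : F, z₁ ^ 2 + α * z₁ * z₂ + β * z₂ ^ 2 = 0 → z₁ = 0 ∧ z₂ = 0)
    (hs : IsSimpleGroup (POmega F (quadFormMinus (4 - 1) F α β))) (hna : ¬ IsMulCommutative (POmega F (quadFormMinus (4 - 1) F α β))) :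
    Row 0 (POmega F (quadFormMinus (4 - 1) F α β)) :=
  ominus_row (f := 1) (N := 197406720) (a := 13) (b := 0)
    (l := [(3, 4, 17), (5, 1, 7), (7, 1, 5), (17, 1, 5)])
    hF (by norm_num) (by norm_num) (by norm_num) (by decide +kernel) (by decide +kernel) hab hs hna

theorem ominus_5_2 (hF : Fintype.card F = 2) {α β : F}
    (hab : ∀ z₁ z₂ : F, z₁ ^ 2 + α * z₁ * z₂ + β * z₂ ^ 2 = 0 → z₁ = 0 ∧ z₂ = 0)
    (hs : IsSimpleGroup (POmega F (quadFormMinus (5 - 1) F α β))) (hna : ¬ IsMulCommutative (POmega F (quadFormMinus (5 - 1) F α β))) :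
    Row 0 (POmega F (quadFormMinus (5 - 1) F α β)) :=
  ominus_row (f := 1) (N := 25015379558400) (a := 21) (b := 0)
    (l := [(3, 6, 17), (5, 2, 7), (7, 1, 5), (11, 1, 7), (17, 1, 5)])
    hF (by norm_num) (by norm_num) (by norm_num) (by decide +kernel) (by decide +kernel) hab hs hna

theorem ominus_6_2 (hF : Fintype.card F = 2) {α β : F}
    (hab : ∀ z₁ z₂ : F, z₁ ^ 2 + α * z₁ * z₂ + β * z₂ ^ 2 = 0 → z₁ = 0 ∧ z₂ = 0)
    (hs : IsSimpleGroup (POmega F (quadFormMinus (6 - 1) F α β))) (hna : ¬ IsMulCommutative (POmega F (quadFormMinus (6 - 1) F α β))) :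
    Row 0 (POmega F (quadFormMinus (6 - 1) F α β)) :=
  ominus_row (f := 1) (N := 51615733565620224000) (a := 31) (b := 0)
    (l := [(3, 6, 17), (5, 3, 11), (7, 1, 5), (11, 1, 7), (13, 1, 5), (17, 1, 5), (31, 1, 7)])
    hF (by norm_num) (by norm_num) (by norm_num) (by decide +kernel) (by decide +kernel) hab hs hna

theorem ominus_7_2 (hF : Fintype.card F = 2) {α β : F}
    (hab : ∀ z₁ z₂ : F, z₁ ^ 2 + α * z₁ * z₂ + β * z₂ ^ 2 = 0 → z₁ = 0 ∧ z₂ = 0)
    (hs : IsSimpleGroup (POmega F (quadFormMinus (7 - 1) F α β))) (hna : ¬ IsMulCommutative (POmega F (quadFormMinus (7 - 1) F α β))) :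
    Row 0 (POmega F (quadFormMinus (7 - 1) F α β)) :=
  ominus_row (f := 1) (N := 1718194449153210615595008000) (a := 43) (b := 0)
    (l := [(3, 9, 31), (5, 3, 11), (7, 2, 11), (11, 1, 7), (13, 1, 5), (17, 1, 5), (31, 1, 7), (43, 1, 5)])
    hF (by norm_num) (by norm_num) (by norm_num) (by decide +kernel) (by decide +kernel) hab hs hna

theorem ominus_8_2 (hF : Fintype.card F = 2) {α β : F}
    (hab : ∀ z₁ z₂ : F, z₁ ^ 2 + α * z₁ * z₂ + β * z₂ ^ 2 = 0 → z₁ = 0 ∧ z₂ = 0)
    (hs : IsSimpleGroup (POmega F (quadFormMinus (8 - 1) F α β))) (hna : ¬ IsMulCommutative (POmega F (quadFormMinus (8 - 1) F α β))) :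
    Row 0 (POmega F (quadFormMinus (8 - 1) F α β)) :=
  ominus_row (f := 1) (N := 918817155086936330770931156779008000) (a := 57) (b := 0)
    (l := [(3, 9, 31), (5, 3, 11), (7, 2, 11), (11, 1, 7), (13, 1, 5), (17, 1, 5), (31, 1, 7), (43, 1, 5), (127, 1, 5), (257, 1, 5)])
    hF (by norm_num) (by norm_num) (by norm_num) (by decide +kernel) (by decide +kernel) hab hs hna

theorem ominus_9_2 (hF : Fintype.card F = 2) {α β : F}
    (hab : ∀ z₁ z₂ : F, z₁ ^ 2 + α * z₁ * z₂ + β * z₂ ^ 2 = 0 → z₁ = 0 ∧ z₂ = 0)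
    (hs : IsSimpleGroup (POmega F (quadFormMinus (9 - 1) F α β))) (hna : ¬ IsMulCommutative (POmega F (quadFormMinus (9 - 1) F α β))) :
    Row 0 (POmega F (quadFormMinus (9 - 1) F α β)) :=
  ominus_row (f := 1) (N := 7877103854727828347931810809383874168094720000) (a := 73) (b := 0)
    (l := [(3, 13, 31), (5, 4, 11), (7, 2, 11), (11, 1, 7), (13, 1, 5), (17, 2, 7), (19, 1, 7), (31, 1, 7), (43, 1, 5), (127, 1, 5), (257, 1, 5)])
    hF (by norm_num) (by norm_num) (by norm_num) (by decide +kernel) (by decide +kernel) hab hs hna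

theorem ominus_4_4 (hF : Fintype.card F = 4) {α β : F}
    (hab : ∀ z₁ z₂ : F, z₁ ^ 2 + α * z₁ * z₂ + β * z₂ ^ 2 = 0 → z₁ = 0 ∧ z₂ = 0)
    (hs : IsSimpleGroup (POmega F (quadFormMinus (4 - 1) F α β))) (hna : ¬ IsMulCommutative (POmega F (quadFormMinus (4 - 1) F α β))) :
    Row 0 (POmega F (quadFormMinus (4 - 1) F α β)) :=
  ominus_row (f := 2) (N := 67536471195648000) (a := 26) (b := 0)
    (l := [(3, 4, 17), (5, 3, 17), (7, 1, 5), (13, 1, 5), (17, 1, 5), (257, 1, 5)])
    hF (by norm_num) (by norm_num) (by norm_num) (by decide +kernel) (by decide +kernel) hab hs hna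

theorem ominus_5_4 (hF : Fintype.card F = 4) {α β : F}
    (hab : ∀ z₁ z₂ : F, z₁ ^ 2 + α * z₁ * z₂ + β * z₂ ^ 2 = 0 → z₁ = 0 ∧ z₂ = 0)
    (hs : IsSimpleGroup (POmega F (quadFormMinus (5 - 1) F α β))) (hna : ¬ IsMulCommutative (POmega F (quadFormMinus (5 - 1) F α β))) :
    Row 0 (POmega F (quadFormMinus (5 - 1) F α β)) :=
  ominus_row (f := 2) (N := 1156864092324658937856000000) (a := 42) (b := 0)
    (l := [(3, 5, 17), (5, 6, 17), (7, 1, 5), (13, 1, 5), (17, 2, 7), (41, 1, 13), (257, 1, 5)])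
    hF (by norm_num) (by norm_num) (by norm_num) (by decide +kernel) (by decide +kernel) hab hs hna

end Cfsg.Agent.H298.EORows
end

-- part: H298/EOSpec
section
/-!
# `U₆(2)`, `Ω₈⁺(2)` and `Sp₆(2)`: no split (B,N)-pair of characteristic three (helper298)
-/

set_option autoImplicit false
set_option linter.unusedSectionVars false

namespace Cfsg.Agent.H298.EOSpec

open Cfsg Cfsg.Agent.OrdDiv Cfsg.Agent.H298.EOArith Cfsg.Agent.H298.EOAlm Cfsg.Agent.H298.EOCard
  Cfsg.Agent.H298.QTest Cfsg.Agent.FixBN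

/-! ### `U₆(2)` -/

section U

open Cfsg.Agent.LieClassical.HermBasic Cfsg.Agent.LieClassical.HermSiegel
  Cfsg.Agent.LieClassical.HermGen Cfsg.Agent.LieClassical.SUBasic Cfsg.Agent.ClassicalGeometry.PSUAutBasic
  Cfsg.Agent.ClassicalGeometry.PSUAutSylow Cfsg.Agent.H934.IdxPSU Matrix

variable {F : Type*} [Field F] [Fintype F]

theorem hasE_psu (hF : Fintype.card F = 2 ^ 2) : HasE 4 (PSU 6 F 2) := by
  classical
  obtain ⟨e, f, hfr⟩ := exists_frame (F := F) (n := 6) hF (by omega)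
  have he0 : e ≠ 0 := by
    rintro rfl
    have := hfr.ef
    rw [herm_zero_left] at this
    exact zero_ne_one this
  have h1 := hyp hF he0 hfr.ee
  have hle : transvG hF e hfr.ee ≤ siegG hF e hfr.ee := transvG_le_siegG hF _
  have hcZ : Nat.card ((transvG hF e hfr.ee).subgroupOf (siegG hF e hfr.ee)) = Nat.card (transvG hF e hfr.ee) :=
    Nat.card_congr (Subgroup.subgroupOfEquivOfLe hle).toEquiv
  have hZ : Nat.card (transvG hF e hfr.ee) = 2 := by
    have h2 := card_transvG hF he0 hfr.ee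
    have h3 : ∀ g g' : transvG hF e hfr.ee, g ≠ 1 → g' ≠ 1 → g = g' := by
      rintro ⟨g, μ, hμ, rfl⟩ ⟨g', μ', hμ', rfl⟩ hg hg'
      have h0 : μ ≠ 0 := fun h0 => hg (Subtype.ext (transv_eq_one hF hfr.ee hμ h0))
      have h0' : μ' ≠ 0 := fun h0 => hg' (Subtype.ext (transv_eq_one hF hfr.ee hμ' h0))
      have h4 : μ = -1 := by
        have h5 : μ * (μ + 1) = 0 := by rw [← hμ]; ring
        exact eq_neg_of_add_eq_zero_left ((mul_eq_zero.1 h5).resolve_left h0)
      have h4' : μ' = -1 := by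
        have h5 : μ' * (μ' + 1) = 0 := by rw [← hμ']; ring
        exact eq_neg_of_add_eq_zero_left ((mul_eq_zero.1 h5).resolve_left h0')
      subst h4 h4'
      rfl
    have hnt : Nontrivial (transvG hF e hfr.ee) := by
      rw [← Finite.one_lt_card_iff_nontrivial]
      omega
    obtain ⟨g, hg⟩ := exists_ne (1 : transvG hF e hfr.ee)
    rw [Nat.card_eq_two_iff' 1]
    exact ⟨g, hg, fun g' hg' => h3 _ _ hg' hg⟩
  have hE : HasE 4 (siegG hF e hfr.ee) := by
    refine HasE.of_hyp h1 (by rw [hcZ, hZ]) ?_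
    rw [Subgroup.card_top]
    exact le_trans (by norm_num) (card_siegG hF hfr)
  refine hE.map ((pr 6 F 2).comp (siegG hF e hfr.ee).subtype) ?_
  intro x hx hx2
  have h2 : pr 6 F 2 x = 1 := hx
  rw [pr_eq_one_iff] at h2
  obtain ⟨c, hc0, hcc, hc⟩ := exists_scalar_of_mem_center hF (by omega) h2
  obtain ⟨k, hk⟩ := hx2 ⟨x, Subgroup.mem_zpowers x⟩
  have h3 : x ^ 2 ^ k = 1 := congrArg Subtype.val hk
  have h4 : x ^ 3 = 1 := by
    apply Subtype.ext
    apply ext_act
    intro v
    change act ((x : SU 6 F 2) ^ 3) v = act 1 v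
    rw [pow_succ, pow_two, act_mul, act_mul, hc, hc, hc, act_one, smul_smul, smul_smul]
    have h5 : c * c * c = 1 := by rw [← hcc]; ring
    rw [h5, one_smul]
  have h5 : Nat.gcd (2 ^ k) 3 = 1 := Nat.Coprime.pow_left k (by norm_num)
  have h6 := pow_gcd_eq_one.2 ⟨h3, h4⟩
  rwa [h5, pow_one] at h6

theorem psu_six {F : Type*} [Field F] [Fintype F] (hF : Fintype.card F = 2 ^ 2)
    (hs : IsSimpleGroup (PSU 6 F 2)) (hna : ¬ IsMulCommutative (PSU 6 F 2)) : Row 0 (PSU 6 F 2) := by
  refine ⟨fun p hp hp2 hA => ?_, (EORows.psu_6_2 hF hs hna).three⟩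
  obtain ⟨rfl, -⟩ := (EORows.psu_6_2 hF hs hna).kill p hp hp2 hA
  exfalso
  have : Fact (Nat.Prime 2) := ⟨Nat.prime_two⟩
  have : Fact (Nat.Prime 3) := ⟨Nat.prime_three⟩
  have : Finite (PSU 6 F 2) := Quotient.finite _
  have hN : Nat.card (PSU 6 F 2) = 9196830720 := by
    refine eq_of (card_psu (F := F) (n := 6) hF (by omega)) (by decide +kernel) ?_
    norm_num
  have hM := S0815.result (F := F) 2 1 le_rfl (by norm_num) hF 6 (by norm_num) (by norm_num)
  rw [hN] at hM
  obtain ⟨Y, hI, hY⟩ := hA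
  obtain ⟨k, hk, h1⟩ := etest hna (by norm_num) Y hI hY (by rw [hN]; norm_num) (hasE_psu hF)
  have hk7 : k ≤ 7 := by
    by_contra hc
    push Not at hc
    have h2 : 3 ^ 8 ∣ Nat.card (MulAut (PSU 6 F 2)) :=
      (Nat.prime_three.pow_dvd_iff_le_factorization Nat.card_pos.ne').2 (by omega)
    rw [hM] at h2
    revert h2
    decide +kernel
  interval_cases k <;> revert h1 <;> decide

end U

/-! ### `Ω₈⁺(2)` -/

section O

open Cfsg.Lie Cfsg.Agent.H934 Cfsg.Agent.H934.HeisD4 Cfsg.Agent.H934.HeisChev Cfsg.Agent.H934.HeisRoot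

theorem hasE_oplus {F : Type*} [Field F] [Fintype F] (hF : Fintype.card F = 2) :
    HasE 4 (POmega F (quadFormPlus 4 F)) := by
  obtain ⟨e⟩ := Cfsg.Agent.S1082.result (F := F)
  have : Finite (Cfsg.isometryGroup F (Cfsg.quadFormPlus 4 F)) := inferInstance
  have : Finite (Cfsg.POmega F (Cfsg.quadFormPlus 4 F)) := inferInstance
  have hfin : Finite ↥(chevD4.group F) := Finite.of_equiv _ e.symm.toEquiv
  have h1 := (tab.rh hD tab_ok F).toData.hyp
  have hc1 := (tab.rh hD tab_ok F).toData.card_ZZ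
  have hc2 := (tab.rh hD tab_ok F).toData.card_QQ
  have hE : HasE 4 (tab.rh hD tab_ok F).toData.Pg := by
    refine HasE.of_hyp h1 ?_ ?_
    · rw [hc1, Nat.card_eq_fintype_card, hF]
    · rw [hc2, Nat.card_fun, Nat.card_eq_fintype_card, Nat.card_eq_fintype_card, hF, Fintype.card_fin]
      norm_num
  exact hE.of_injective (e.toMonoidHom.comp (tab.rh hD tab_ok F).toData.Pg.subtype)
    (e.injective.comp (Subgroup.subtype_injective _))

theorem oplus_four {F : Type*} [Field F] [Fintype F] (hF : Fintype.card F = 2)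
    (hs : IsSimpleGroup (POmega F (quadFormPlus 4 F))) (hna : ¬ IsMulCommutative (POmega F (quadFormPlus 4 F))) :
    Row 0 (POmega F (quadFormPlus 4 F)) := by
  refine ⟨fun p hp hp2 hA => ?_, (EORows.oplus_4_2 hF hs hna).three⟩
  obtain ⟨rfl, -⟩ := (EORows.oplus_4_2 hF hs hna).kill p hp hp2 hA
  exfalso
  have : Fact (Nat.Prime 2) := ⟨Nat.prime_two⟩
  have : Fact (Nat.Prime 3) := ⟨Nat.prime_three⟩
  have : Finite (POmega F (quadFormPlus 4 F)) := Quotient.finite _
  have hN : Nat.card (POmega F (quadFormPlus 4 F)) = 174182400 := by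
    refine eq_of (card_oplus (F := F) (m := 4) (by omega)) (by rw [hF]; decide +kernel) ?_
    rw [hF]; norm_num
  have hM := S0817.result (F := F) 2 1 le_rfl (by rw [hF]; norm_num) 4 le_rfl
  rw [hN] at hM
  obtain ⟨Y, hI, hY⟩ := hA
  obtain ⟨k, hk, h1⟩ := etest hna (by norm_num) Y hI hY (by rw [hN]; norm_num) (hasE_oplus hF)
  have hk7 : k ≤ 6 := by
    by_contra hc
    push Not at hc
    have h2 : 3 ^ 7 ∣ Nat.card (MulAut (POmega F (quadFormPlus 4 F))) :=
      (Nat.prime_three.pow_dvd_iff_le_factorization Nat.card_pos.ne').2 (by omega)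
    rw [hM, if_pos rfl, if_pos rfl] at h2
    revert h2
    decide +kernel
  interval_cases k <;> revert h1 <;> decide

end O

/-! ### `Sp₆(2)` -/

section S

theorem ord_three : 2 = orderOf ((2 : ℕ) : ZMod 3) := by
  have : Fact (Nat.Prime 2) := ⟨Nat.prime_two⟩
  exact (orderOf_eq_prime (by decide) (by decide)).symm

theorem ord_seven : 3 = orderOf ((2 : ℕ) : ZMod 7) := by
  have : Fact (Nat.Prime 3) := ⟨Nat.prime_three⟩
  exact (orderOf_eq_prime (by decide) (by decide)).symm

theorem psp_three {F : Type*} [Field F] [Fintype F] (hF : Fintype.card F = 2)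
    (hs : IsSimpleGroup (PSp 3 F)) (hna : ¬ IsMulCommutative (PSp 3 F)) : Row 0 (PSp 3 F) := by
  refine ⟨fun p hp hp2 hA => ?_, (EORows.psp_3_2 hF hs hna).three⟩
  obtain ⟨rfl, -⟩ := (EORows.psp_3_2 hF hs hna).kill p hp hp2 hA
  exfalso
  have : Fact (Nat.Prime 2) := ⟨Nat.prime_two⟩
  have : Fact (Nat.Prime 3) := ⟨Nat.prime_three⟩
  have : Fact (Nat.Prime 7) := ⟨by norm_num⟩
  have : Finite (PSp 3 F) := Quotient.finite _
  have hN : Nat.card (PSp 3 F) = 1451520 := by
    have h1 := card_psp (F := F) (m := 3) (by omega)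
    rw [hF, show Nat.gcd 2 (2 - 1) = 1 from rfl, one_mul] at h1
    rw [h1]
    decide +kernel
  have hM := S0814.result (F := F) 2 1 le_rfl (by rw [hF]; norm_num) 3 (by norm_num) (by norm_num)
  rw [if_neg (by norm_num), show Nat.gcd 2 (2 ^ 1 - 1) = 1 from rfl, mul_one, mul_one, one_mul] at hM
  obtain ⟨Y, hI, hY⟩ := hA
  obtain ⟨g, hg⟩ := exists_prime_orderOf_dvd_card' (G := PSp 3 F) 7 (by rw [hN]; norm_num)
  obtain ⟨k, hk0, hk, h1⟩ := qtest hna Y hI hY (by rw [hN]; norm_num) (r := 7) (by norm_num) (by norm_num) (by norm_num) hg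
  have hinj := H329.CompSplit.conj_injective hna
  have hsurj : Function.Surjective (MulAut.conj : PSp 3 F →* MulAut (PSp 3 F)) :=
    ((Nat.bijective_iff_injective_and_card _).2 ⟨hinj, hM.symm⟩).2
  have hcY : Nat.card Y = 1451520 := by
    have h2 : Y = ⊤ := by
      rw [eq_top_iff]
      intro α _
      obtain ⟨h, rfl⟩ := hsurj α
      exact hI ⟨h, rfl⟩
    rw [h2, Subgroup.card_top, hM, hN]
  have hz : (Nat.card ↥(Subgroup.centralizer ({ii Y hI g} : Set Y))).factorization 3 = 0 := by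
    by_contra hne
    have h3 : 3 ∣ Nat.card ↥(Subgroup.centralizer ({ii Y hI g} : Set Y)) := Nat.dvd_of_factorization_pos hne
    obtain ⟨c, hc⟩ := exists_prime_orderOf_dvd_card' 3 h3
    obtain ⟨h, hh⟩ := hsurj ((c : Y) : MulAut (PSp 3 F))
    have ho : orderOf h = 3 := by
      rw [← orderOf_injective _ hinj h, hh, Subgroup.orderOf_coe, Subgroup.orderOf_coe, hc]
    have hcm : h * g = g * h := by
      apply hinj
      rw [map_mul, map_mul, hh]
      have h5 := Subgroup.mem_centralizer_singleton_iff.1 c.2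
      have h6 := congrArg (fun y : Y => (y : MulAut (PSp 3 F))) h5
      exact h6
    have ho2 : orderOf (h * g) = 3 * 7 := by
      rw [Commute.orderOf_mul_eq_mul_orderOf_of_coprime (show Commute h g from hcm) (by rw [ho, hg]; norm_num), ho, hg]
    have hch : CharP F 2 := charP_of_card_eq_prime hF
    have o1 : 2 = orderOf ((2 : ℕ) : ZMod 3) := ord_three
    have o2 : 3 = orderOf ((2 : ℕ) : ZMod 7) := ord_seven
    have h7 := (S2469.result (F := F) 2 3 (by norm_num) (by norm_num) 3 7 Nat.prime_three (by norm_num) (by norm_num)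
      (by norm_num) (by norm_num) (by norm_num) (by norm_num) (by rw [hN]; norm_num) (by rw [hN]; norm_num)
      2 3 1 3 (by rw [hF]; exact o1) (by rw [hF]; exact o2) (Or.inr ⟨by decide, rfl⟩) (Or.inl ⟨by decide, rfl⟩) (by norm_num)).2
      ⟨by norm_num, by
        rintro ⟨t, -, ht⟩
        omega⟩
    exact h7 ⟨h * g, ho2⟩
  rw [hz, add_zero, hcY] at hk
  have h4 : k = 4 := by
    rw [← hk]
    apply le_antisymm
    · by_contra hc
      push Not at hc
      have h2 : 3 ^ 5 ∣ 1451520 := (Nat.prime_three.pow_dvd_iff_le_factorization (by norm_num)).2 (by omega)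
      revert h2
      decide
    · exact (Nat.prime_three.pow_dvd_iff_le_factorization (by norm_num)).1 (by decide)
  subst h4
  revert h1
  decide

end S

end Cfsg.Agent.H298.EOSpec
end

-- part: H298/EODeg
section
/-!
# Classical groups of characteristic two with a projective representation of degree at most `248` (helper298)
-/

set_option autoImplicit false
set_option linter.unusedSectionVars false

universe u v

namespace Cfsg.Agent.H298.EODeg

open Cfsg Cfsg.Agent.OrdDiv Cfsg.Agent.H298.EOCard Cfsg.Agent.H340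

/-- The extension `A` of `T` has a faithful representation of degree `≤ 248`. -/
theorem exists_PR {A : Type u} [Group A] (h : HasRep 248 A) {T : Type v} [Group T] (π : A →* T)
    (hπ : Function.Surjective π) (hc : π.ker ≤ Subgroup.center A) (ho : Odd (Nat.card π.ker)) :
    ∃ (k : Type) (_ : Field k) (n : ℕ), n ≤ 248 ∧ (2 : k) ≠ 0 ∧ H912.Bd.PR k n 2 T := by
  obtain ⟨k, i1, V, i2, i3, i4, h2, hn, ρ, hρ⟩ := h
  refine ⟨k, i1, Module.finrank k V, hn, h2, ρ.range, inferInstance, π.comp (MonoidHom.ofInjective hρ).symm.toMonoidHom,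
    (Units.map (LinearMap.toMatrixAlgEquiv (Module.finBasis k V)).toRingEquiv.toMonoidHom).comp ρ.range.subtype,
    hπ.comp (MulEquiv.surjective _), ?_, ?_, ?_⟩
  · intro x hx y
    obtain ⟨a, rfl⟩ := (MonoidHom.ofInjective hρ).surjective x
    obtain ⟨b, rfl⟩ := (MonoidHom.ofInjective hρ).surjective y
    have h1 : π a = 1 := by
      have h3 : π ((MonoidHom.ofInjective hρ).symm (MonoidHom.ofInjective hρ a)) = 1 := hx
      rwa [MulEquiv.symm_apply_apply] at h3
    rw [← map_mul, ← map_mul, Subgroup.mem_center_iff.1 (hc h1) b]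
  · have h1 : Nat.card (π.comp (MonoidHom.ofInjective hρ).symm.toMonoidHom).ker = Nat.card π.ker := by
      have h3 : (π.comp (MonoidHom.ofInjective hρ).symm.toMonoidHom).ker =
          π.ker.map (MonoidHom.ofInjective hρ).toMonoidHom := by
        ext x
        constructor
        · intro hx
          exact ⟨(MonoidHom.ofInjective hρ).symm x, hx, MulEquiv.apply_symm_apply _ _⟩
        · rintro ⟨y, hy, rfl⟩
          change π ((MonoidHom.ofInjective hρ).symm (MonoidHom.ofInjective hρ y)) = 1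
          rw [MulEquiv.symm_apply_apply]
          exact hy
      rw [h3]
      exact (Nat.card_congr (π.ker.equivMapOfInjective _ (MonoidHom.ofInjective hρ).injective).toEquiv).symm
    rw [h1]
    exact (Nat.coprime_two_right).2 ho
  · intro x hx
    have h1 : (LinearMap.toMatrixAlgEquiv (Module.finBasis k V)) (x : (Module.End k V)ˣ).val = 1 :=
      congrArg Units.val hx
    have h3 : (x : (Module.End k V)ˣ).val = 1 := (LinearMap.toMatrixAlgEquiv (Module.finBasis k V)).injective (by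
      rw [h1, map_one])
    have h4 : x = 1 := Subtype.ext (Units.ext h3)
    rw [h4]
    exact _root_.OneMemClass.one_mem _

/-- a lower bound for the degree is at most `248` -/
theorem le_of_bd {A : Type u} [Group A] (h : HasRep 248 A) {T : Type v} [Group T] (π : A →* T)
    (hπ : Function.Surjective π) (hc : π.ker ≤ Subgroup.center A) (ho : Odd (Nat.card π.ker)) {m : ℕ}
    (hb : ∀ (k : Type) [Field k], (2 : k) ≠ 0 → H912.Bd.Bd k 2 m T) : m ≤ 248 := by
  obtain ⟨k, _, n, hn, h2, hP⟩ := exists_PR h π hπ hc ho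
  exact (hb k h2 n hP).trans hn

theorem charTwo {F : Type*} [Field F] [Fintype F] {q f : ℕ} (hF : Fintype.card F = q) (hq : q = 2 ^ f) :
    CharP F 2 := by
  have : Fact (Nat.Prime 2) := ⟨Nat.prime_two⟩
  obtain ⟨r, hr⟩ := CharP.exists F
  have hrp : r.Prime := (CharP.char_is_prime_or_zero F r).resolve_right (CharP.char_ne_zero_of_finite F r)
  have := Fact.mk hrp
  obtain ⟨n, -, hn⟩ := FiniteField.card F r
  have h3 : r ∣ 2 ^ f := by rw [← hq, ← hF, hn]; exact dvd_pow_self r n.ne_zero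
  rw [(Nat.prime_dvd_prime_iff_eq hrp Nat.prime_two).1 (hrp.dvd_of_dvd_pow h3)] at hr
  exact hr

theorem exp_le {f e : ℕ} (h : (2 ^ f) ^ e - 1 ≤ 248) : f * e ≤ 7 := by
  by_contra hc
  push Not at hc
  have h1 : 2 ^ 8 ≤ 2 ^ (f * e) := Nat.pow_le_pow_right (by norm_num) hc
  rw [pow_mul] at h1
  omega

section

variable {A : Type u} [Group A] (h : HasRep 248 A) {F : Type} [Field F] [Fintype F] {q f : ℕ} (hf : 1 ≤ f)
  (hq : q = 2 ^ f)

include h hf hq

theorem psl (hF : Fintype.card F = q) {n : ℕ} (hn : 4 ≤ n)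
    (hs : IsSimpleGroup (Matrix.ProjectiveSpecialLinearGroup (Fin n) F))
    (hna : ¬ IsMulCommutative (Matrix.ProjectiveSpecialLinearGroup (Fin n) F))
    (π : A →* Matrix.ProjectiveSpecialLinearGroup (Fin n) F)
    (hπ : Function.Surjective π) (hc : π.ker ≤ Subgroup.center A) (ho : Odd (Nat.card π.ker)) :
    Row 0 (Matrix.ProjectiveSpecialLinearGroup (Fin n) F) := by
  have hch := charTwo hF hq
  have h1 := le_of_bd h π hπ hc ho (fun k _ h2 => H912.Bd.bd_psl Nat.prime_two (by exact_mod_cast h2) (by omega) hch)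
  rw [hF, hq] at h1
  have h2 := exp_le h1
  have hf2 : f ≤ 2 := by
    by_contra hc
    push Not at hc
    nlinarith only [h2, hc, show 3 ≤ n - 1 by omega]
  interval_cases f
  · rw [pow_one] at hq
    subst hq
    have h3 : n ≤ 8 := by omega
    interval_cases n
    · exact EORows.psl_4_2 hF hs hna
    · exact EORows.psl_5_2 hF hs hna
    · exact EORows.psl_6_2 hF hs hna
    · exact EORows.psl_7_2 hF hs hna
    · exact EORows.psl_8_2 hF hs hna
  · norm_num at hq
    subst hq
    have h3 : n ≤ 4 := by omega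
    obtain rfl : n = 4 := by omega
    exact EORows.psl_4_4 hF hs hna

theorem psp (hF : Fintype.card F = q) {m : ℕ} (hm : 3 ≤ m)
    (hs : IsSimpleGroup (PSp m F)) (hna : ¬ IsMulCommutative (PSp m F)) (π : A →* PSp m F)
    (hπ : Function.Surjective π) (hc : π.ker ≤ Subgroup.center A) (ho : Odd (Nat.card π.ker)) :
    Row 0 (PSp m F) := by
  have hch := charTwo hF hq
  have h1 := le_of_bd h π hπ hc ho (fun k _ h2 => H175.BdSp.bd_psp_even hF (by omega) h2 (MulEquiv.refl _))
  rw [hq] at h1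
  have h2 := exp_le h1
  have hf2 : f ≤ 2 := by
    by_contra hc
    push Not at hc
    nlinarith only [hm, h2, hc]
  interval_cases f
  · rw [pow_one] at hq
    subst hq
    have h3 : m ≤ 7 := by omega
    interval_cases m
    · exact EOSpec.psp_three hF hs hna
    · exact EORows.psp_4_2 hF hs hna
    · exact EORows.psp_5_2 hF hs hna
    · exact EORows.psp_6_2 hF hs hna
    · exact EORows.psp_7_2 hF hs hna
  · norm_num at hq
    subst hq
    obtain rfl : m = 3 := by omega
    exact EORows.psp_3_4 hF hs hna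

theorem psu (hF : Fintype.card F = q ^ 2) {n : ℕ} (hn : 6 ≤ n)
    (hs : IsSimpleGroup (PSU n F q)) (hna : ¬ IsMulCommutative (PSU n F q)) (π : A →* PSU n F q)
    (hπ : Function.Surjective π) (hc : π.ker ≤ Subgroup.center A) (ho : Odd (Nat.card π.ker)) :
    Row 0 (PSU n F q) := by
  have hch : CharP F 2 := charTwo (q := q ^ 2) (f := f * 2) hF (by rw [hq, pow_mul])
  have h1 := le_of_bd h π hπ hc ho (fun k _ h2 => H175.BdSU.bd_psu Nat.prime_two hF (by omega) (by exact_mod_cast h2)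
    (MulEquiv.refl _))
  have hf1 : f = 1 := by
    by_contra hc
    have h3 : 4 ≤ q := by
      rw [hq]
      calc 4 = 2 ^ 2 := rfl
        _ ≤ 2 ^ f := Nat.pow_le_pow_right (by norm_num) (by omega)
    have h4 : 4 ^ 4 ≤ q ^ (n - 2) := (Nat.pow_le_pow_left h3 4).trans (Nat.pow_le_pow_right (by omega) (by omega))
    have h5 : 1 * 4 ^ 4 ≤ (q - 1) * q ^ (n - 2) := Nat.mul_le_mul (by omega) h4
    omega
  subst hf1
  rw [pow_one] at hq
  subst hq
  have h3 : n ≤ 9 := by
    by_contra hc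
    push Not at hc
    have h4 : 2 ^ 8 ≤ 2 ^ (n - 2) := Nat.pow_le_pow_right (by norm_num) (by omega)
    omega
  interval_cases n
  · exact EOSpec.psu_six hF hs hna
  · exact EORows.psu_7_2 hF hs hna
  · exact EORows.psu_8_2 hF hs hna
  · exact EORows.psu_9_2 hF hs hna

theorem oplus (hF : Fintype.card F = q) {m : ℕ} (hm : 4 ≤ m)
    (hs : IsSimpleGroup (POmega F (quadFormPlus m F))) (hna : ¬ IsMulCommutative (POmega F (quadFormPlus m F)))
    (π : A →* POmega F (quadFormPlus m F))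
    (hπ : Function.Surjective π) (hc : π.ker ≤ Subgroup.center A) (ho : Odd (Nat.card π.ker)) :
    Row 0 (POmega F (quadFormPlus m F)) := by
  have hch := charTwo hF hq
  have h1 := le_of_bd h π hπ hc ho (fun k _ h2 => H912.Bd.bd_pomega_plus_sl Nat.prime_two (by exact_mod_cast h2) hch
    (by omega))
  rw [hF, hq] at h1
  have h2 := exp_le h1
  have hf2 : f ≤ 2 := by
    by_contra hc
    push Not at hc
    nlinarith only [h2, hc, show 3 ≤ m - 1 by omega]
  interval_cases f
  · rw [pow_one] at hq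
    subst hq
    have h3 : m ≤ 8 := by omega
    interval_cases m
    · exact EOSpec.oplus_four hF hs hna
    · exact EORows.oplus_5_2 hF hs hna
    · exact EORows.oplus_6_2 hF hs hna
    · exact EORows.oplus_7_2 hF hs hna
    · exact EORows.oplus_8_2 hF hs hna
  · norm_num at hq
    subst hq
    obtain rfl : m = 4 := by omega
    exact EORows.oplus_4_4 hF hs hna

theorem ominus (hF : Fintype.card F = q) {m : ℕ} (hm : 4 ≤ m) {α β : F}
    (hab : ∀ z₁ z₂ : F, z₁ ^ 2 + α * z₁ * z₂ + β * z₂ ^ 2 = 0 → z₁ = 0 ∧ z₂ = 0)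
    (hs : IsSimpleGroup (POmega F (quadFormMinus (m - 1) F α β)))
    (hna : ¬ IsMulCommutative (POmega F (quadFormMinus (m - 1) F α β)))
    (π : A →* POmega F (quadFormMinus (m - 1) F α β))
    (hπ : Function.Surjective π) (hc : π.ker ≤ Subgroup.center A) (ho : Odd (Nat.card π.ker)) :
    Row 0 (POmega F (quadFormMinus (m - 1) F α β)) := by
  have hch := charTwo hF hq
  have h1 := le_of_bd h π hπ hc ho (fun k _ h2 => H912.Bd.bd_pomega_minus_sl Nat.prime_two (by exact_mod_cast h2) hch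
    (by omega) α β)
  have h1' := le_of_bd h π hπ hc ho (fun k _ h2 => H912.Bd.bd_pomega_minus_cube Nat.prime_two (by exact_mod_cast h2) hch
    (by omega) α β)
  rw [hF, hq] at h1 h1'
  have h2 := exp_le h1
  have h2' := exp_le h1'
  have hf2 : f ≤ 2 := by omega
  interval_cases f
  · rw [pow_one] at hq
    subst hq
    have h3 : m ≤ 9 := by omega
    interval_cases m
    · exact EORows.ominus_4_2 hF hab hs hna
    · exact EORows.ominus_5_2 hF hab hs hna
    · exact EORows.ominus_6_2 hF hab hs hna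
    · exact EORows.ominus_7_2 hF hab hs hna
    · exact EORows.ominus_8_2 hF hab hs hna
    · exact EORows.ominus_9_2 hF hab hs hna
  · norm_num at hq
    subst hq
    have h3 : m ≤ 5 := by omega
    interval_cases m
    · exact EORows.ominus_4_4 hF hab hs hna
    · exact EORows.ominus_5_4 hF hab hs hna

end

end Cfsg.Agent.H298.EODeg
end

-- part: H298/EO
section
/-!
# Groups of Lie type in odd characteristic have no component which is classical of characteristic two (helper298)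

`Big2 S` : `S` is `L_n(q)` (`n ≥ 4`), `Sp_2k(q)` (`k ≥ 3`), `U_n(q)` (`n ≥ 6`), `Ω_2k^±(q)` (`k ≥ 4`), `q` even.

* `eo` : `X` exceptional of odd characteristic, `x ∈ Aut(X)`, `x * x = 1`, `A` a quasisimple normal subgroup of the
  fixed points of `x`, `|Z(A)|` odd: `A / Z(A)` is not `Big2`;
* `odd_row` : the same for all `X` of Lie type of odd characteristic.
-/

set_option autoImplicit false
set_option linter.unusedSectionVars false

universe u v

namespace Cfsg.Agent.H298.EO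

open Cfsg Subgroup Cfsg.Agent.OrdDiv Cfsg.Agent.H298.EOCard Cfsg.Agent.H298.EOAlm Cfsg.Agent.H340

/-- Classical groups of characteristic two of rank at least three. -/
def Big2 (S : Type*) [Group S] : Prop :=
  (∃ (F : Type) (_ : Field F) (_ : Fintype F) (_ : CharP F 2) (n : ℕ), 4 ≤ n ∧
      Nonempty (S ≃* Matrix.ProjectiveSpecialLinearGroup (Fin n) F)) ∨
    (∃ (F : Type) (_ : Field F) (_ : Fintype F) (_ : CharP F 2) (k : ℕ), 3 ≤ k ∧ Nonempty (S ≃* PSp k F)) ∨
    (∃ (F : Type) (_ : Field F) (_ : Fintype F) (_ : CharP F 2) (n q : ℕ), 6 ≤ n ∧ Fintype.card F = q ^ 2 ∧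
      Nonempty (S ≃* PSU n F q)) ∨
    (∃ (F : Type) (_ : Field F) (_ : Fintype F) (_ : CharP F 2) (k : ℕ), 4 ≤ k ∧
      (Nonempty (S ≃* POmega F (quadFormPlus k F)) ∨
        ∃ a b : F, (∀ z₁ z₂ : F, z₁ ^ 2 + a * z₁ * z₂ + b * z₂ ^ 2 = 0 → z₁ = 0 ∧ z₂ = 0) ∧
          Nonempty (S ≃* POmega F (quadFormMinus (k - 1) F a b))))

theorem Big2.congr {S : Type*} [Group S] {T : Type*} [Group T] (e : S ≃* T) (h : Big2 S) : Big2 T := by
  rcases h with ⟨F, i1, i2, i3, n, hn, ⟨f⟩⟩ | ⟨F, i1, i2, i3, n, hn, ⟨f⟩⟩ | ⟨F, i1, i2, i3, n, q, hn, hF, ⟨f⟩⟩ |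
    ⟨F, i1, i2, i3, n, hn, (⟨⟨f⟩⟩ | ⟨a, b, hab, ⟨f⟩⟩)⟩
  · exact Or.inl ⟨F, i1, i2, i3, n, hn, ⟨e.symm.trans f⟩⟩
  · exact Or.inr (Or.inl ⟨F, i1, i2, i3, n, hn, ⟨e.symm.trans f⟩⟩)
  · exact Or.inr (Or.inr (Or.inl ⟨F, i1, i2, i3, n, q, hn, hF, ⟨e.symm.trans f⟩⟩))
  · exact Or.inr (Or.inr (Or.inr ⟨F, i1, i2, i3, n, hn, Or.inl ⟨e.symm.trans f⟩⟩))
  · exact Or.inr (Or.inr (Or.inr ⟨F, i1, i2, i3, n, hn, Or.inr ⟨a, b, hab, ⟨e.symm.trans f⟩⟩⟩))

theorem Big2.lieTwo {S : Type*} [Group S] (h : Big2 S) : IsLieTypeChar 2 S := by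
  rcases h with ⟨F, i1, i2, i3, n, hn, f⟩ | ⟨F, i1, i2, i3, n, hn, f⟩ | ⟨F, i1, i2, i3, n, q, hn, hF, f⟩ |
    ⟨F, i1, i2, i3, n, hn, f | ⟨a, b, hab, f⟩⟩
  · exact Or.inl ⟨F, i1, i2, i3, n, by omega, by omega, f⟩
  · exact Or.inr (Or.inl ⟨F, i1, i2, i3, n, by omega, by omega, f⟩)
  · exact Or.inr (Or.inr (Or.inl ⟨F, i1, i2, i3, n, q, hF, by omega, by omega, f⟩))
  · exact Or.inr (Or.inr (Or.inr (Or.inr (Or.inl ⟨F, i1, i2, i3, n, hn, f⟩))))
  · exact Or.inr (Or.inr (Or.inr (Or.inr (Or.inr (Or.inl ⟨F, i1, i2, i3, n, a, b, hn, hab, f⟩)))))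

theorem exists_f (F : Type*) [Field F] [Fintype F] [CharP F 2] : ∃ f, 1 ≤ f ∧ Fintype.card F = 2 ^ f := by
  have : Fact (Nat.Prime 2) := ⟨Nat.prime_two⟩
  obtain ⟨n, -, hn⟩ := FiniteField.card F 2
  exact ⟨n, n.pos, hn⟩

theorem exists_f_sq {q : ℕ} (F : Type*) [Field F] [Fintype F] [CharP F 2] (hq : Fintype.card F = q ^ 2) :
    ∃ f, 1 ≤ f ∧ q = 2 ^ f := by
  obtain ⟨n, hn, hc⟩ := exists_f F
  rw [hq] at hc
  obtain ⟨f, hf, rfl⟩ := (Nat.dvd_prime_pow Nat.prime_two).1 ((dvd_pow_self q two_ne_zero).trans (dvd_of_eq hc))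
  refine ⟨f, ?_, rfl⟩
  by_contra h0
  obtain rfl : f = 0 := by omega
  have h1 : 2 ^ 1 ≤ 2 ^ n := Nat.pow_le_pow_right (by norm_num) hn
  rw [← hc] at h1
  norm_num at h1

/-- **The rows** of the groups with a representation of degree at most `248`. -/
theorem row_of_rep {A : Type u} [Group A] [Finite A] (h : HasRep 248 A) (hs : IsSimpleGroup (A ⧸ center A))
    (hna : ¬ IsMulCommutative (A ⧸ center A)) (hZ : Odd (Nat.card (center A))) (hS : Big2 (A ⧸ center A)) :
    Row 0 (A ⧸ center A) := by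
  have key : ∀ (T : Type) [Group T] (e : A ⧸ center A ≃* T),
      (IsSimpleGroup T → ¬ IsMulCommutative T → ∀ (π : A →* T), Function.Surjective π → π.ker ≤ center A →
        Odd (Nat.card π.ker) → Row 0 T) → Row 0 (A ⧸ center A) := by
    intro T _ e hT
    have hk : (e.toMonoidHom.comp (QuotientGroup.mk' (center A))).ker = center A := by
      ext a
      rw [MonoidHom.mem_ker]
      constructor
      · intro h1
        have h2 : e (QuotientGroup.mk' (center A) a) = e 1 := by rw [map_one]; exact h1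
        exact (QuotientGroup.eq_one_iff a).1 (e.injective h2)
      · intro h1
        have h2 : QuotientGroup.mk' (center A) a = 1 := (QuotientGroup.eq_one_iff a).2 h1
        change e (QuotientGroup.mk' (center A) a) = 1
        rw [h2, map_one]
    refine (hT e.symm.isSimpleGroup ?_ (e.toMonoidHom.comp (QuotientGroup.mk' (center A)))
      (e.surjective.comp (QuotientGroup.mk'_surjective _)) (by rw [hk]) (by rw [hk]; exact hZ)).congr e.symm
    intro hc
    apply hna
    refine ⟨⟨fun a b => e.injective ?_⟩⟩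
    rw [map_mul, map_mul]
    exact hc.is_comm.comm _ _
  rcases hS with ⟨F, i1, i2, i3, n, hn, ⟨e⟩⟩ | ⟨F, i1, i2, i3, n, hn, ⟨e⟩⟩ | ⟨F, i1, i2, i3, n, q, hn, hF, ⟨e⟩⟩ |
    ⟨F, i1, i2, i3, n, hn, (⟨⟨e⟩⟩ | ⟨a, b, hab, ⟨e⟩⟩)⟩
  · obtain ⟨f, hf, hF⟩ := exists_f F
    exact key _ e fun h1 h2 π h3 h4 h5 => EODeg.psl h hf rfl hF hn h1 h2 π h3 h4 h5
  · obtain ⟨f, hf, hF⟩ := exists_f F
    exact key _ e fun h1 h2 π h3 h4 h5 => EODeg.psp h hf rfl hF hn h1 h2 π h3 h4 h5
  · obtain ⟨f, hf, hq⟩ := exists_f_sq F hF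
    exact key _ e fun h1 h2 π h3 h4 h5 => EODeg.psu h hf hq hF hn h1 h2 π h3 h4 h5
  · obtain ⟨f, hf, hF⟩ := exists_f F
    exact key _ e fun h1 h2 π h3 h4 h5 => EODeg.oplus h hf rfl hF hn h1 h2 π h3 h4 h5
  · obtain ⟨f, hf, hF⟩ := exists_f F
    exact key _ e fun h1 h2 π h3 h4 h5 => EODeg.ominus h hf rfl hF hn hab h1 h2 π h3 h4 h5

theorem not_comm {A : Type*} [Group A] (hA : IsQuasisimple A) : ¬ IsMulCommutative (A ⧸ center A) := by
  intro hcm
  have hs : IsSimpleGroup (A ⧸ center A) := hA.2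
  have hperf : Group.IsPerfect (A ⧸ center A) := by
    have := hA.1
    exact Group.IsPerfect.ofSurjective (QuotientGroup.mk'_surjective (Subgroup.center A))
  have h3 : commutator (A ⧸ center A) = ⊥ := by
    rw [commutator_def, Subgroup.commutator_eq_bot_iff_le_centralizer]
    intro a _
    rw [mem_centralizer_iff]
    intro b _
    exact hcm.is_comm.comm _ _
  have h4 : commutator (A ⧸ center A) = ⊤ := Group.IsPerfect.commutator_eq_top
  rw [h3] at h4
  exact bot_ne_top h4

theorem lie_of_exc {p : ℕ} {X : Type*} [Group X] (hX : IsExcChar p X) : IsLieTypeChar p X := by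
  rcases hX with h | h | h
  · exact Or.inr (Or.inr (Or.inr (Or.inr (Or.inr (Or.inr (Or.inl h))))))
  · exact Or.inr (Or.inr (Or.inr (Or.inr (Or.inr (Or.inr (Or.inr (Or.inl h)))))))
  · exact Or.inr (Or.inr (Or.inr (Or.inr (Or.inr (Or.inr (Or.inr (Or.inr (Or.inr (Or.inr h)))))))))

/-- **`X` exceptional of odd characteristic.** -/
theorem eo {p : ℕ} (hp2 : p ≠ 2) {X : Type u} [Group X] [Finite X] [IsSimpleGroup X] (hX : IsExcChar p X)
    (x : MulAut X) (hx : x * x = 1) (A : Subgroup ↥(fixedSubgroup x)) [A.Normal] (hA : IsQuasisimple ↥A)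
    (hZ : Odd (Nat.card (center ↥A))) (hS : Big2 (↥A ⧸ center ↥A)) : False := by
  have hrep : HasRep 248 ↥A := (hX.hasRep hp2).comp ((fixedSubgroup x).subtype.comp A.subtype)
    ((fixedSubgroup x).subtype_injective.comp A.subtype_injective)
  have hrow := row_of_rep hrep hA.2 (not_comm hA) hZ hS
  obtain ⟨p', hp', hp2', hal⟩ := exists_almost hp2 (lie_of_exc hX) x hx A hA
    (hrow.three.trans (Subgroup.card_quotient_dvd_card _))
  exact (hrow.kill p' hp' hp2' hal).2 rfl

/-! ### orders -/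

theorem pow_dvd {a q c d n : ℕ} (h : d * c = n) (hn : q ^ a ∣ n) (hd : d.Coprime q) : q ^ a ∣ c := by
  rw [← h] at hn
  exact (Nat.Coprime.pow_left a hd.symm).dvd_of_dvd_mul_left hn

theorem two_pow_dvd {q f k a : ℕ} (hq : q = 2 ^ f) (hf : 1 ≤ f) (hk : k ≤ a) : 2 ^ k ∣ q ^ a := by
  rw [hq, ← pow_mul]
  exact pow_dvd_pow 2 (hk.trans (Nat.le_mul_of_pos_left a hf))

theorem Big2.card {S : Type*} [Group S] (h : Big2 S) : 2 ^ 7 ∣ Nat.card S ∨ Nat.card S = 20160 := by
  rcases h with ⟨F, i1, i2, i3, n, hn, ⟨e⟩⟩ | ⟨F, i1, i2, i3, n, hn, ⟨e⟩⟩ | ⟨F, i1, i2, i3, n, q, hn, hF, ⟨e⟩⟩ |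
    ⟨F, i1, i2, i3, n, hn, (⟨⟨e⟩⟩ | ⟨a, b, hab, ⟨e⟩⟩)⟩
  · obtain ⟨f, hf, hF⟩ := exists_f F
    rw [Nat.card_congr e.toEquiv]
    have h1 := card_psl (F := F) (n := n) (by omega)
    by_cases hc : n = 4 ∧ f = 1
    · right
      obtain ⟨rfl, rfl⟩ := hc
      rw [pow_one] at hF
      refine eq_of h1 (by rw [hF]; decide +kernel) ?_
      rw [hF]; decide
    · left
      have hcop : (Nat.gcd n (Fintype.card F - 1) * (Fintype.card F - 1)).Coprime (Fintype.card F) := by
        have h2 := cop_sub (q := Fintype.card F) (k := 1) Fintype.card_pos le_rfl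
        rw [pow_one] at h2
        exact Nat.Coprime.mul_left (Nat.Coprime.coprime_dvd_left (Nat.gcd_dvd_right _ _) h2) h2
      have h3 := pow_dvd h1 (pow_dvd_glN n _) hcop
      refine dvd_trans ?_ h3
      rw [hF, ← pow_mul]
      apply pow_dvd_pow
      by_cases h4 : n = 4
      · subst h4
        have : 2 ≤ f := by
          by_contra h5
          exact hc ⟨rfl, by omega⟩
        omega
      · have h5 : 10 ≤ n * (n - 1) / 2 := by
          rw [Nat.le_div_iff_mul_le (by norm_num)]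
          obtain ⟨k, rfl⟩ : ∃ k, n = k + 5 := ⟨n - 5, by omega⟩
          have : k + 5 - 1 = k + 4 := by omega
          rw [this]
          nlinarith only []
        nlinarith only [hf, h5]
  · obtain ⟨f, hf, hF⟩ := exists_f F
    left
    rw [Nat.card_congr e.toEquiv]
    have h1 := card_psp (F := F) (m := n) (by omega)
    have hcop : (Nat.gcd 2 (Fintype.card F - 1)).Coprime (Fintype.card F) := by
      have h2 := cop_sub (q := Fintype.card F) (k := 1) Fintype.card_pos le_rfl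
      rw [pow_one] at h2
      exact Nat.Coprime.coprime_dvd_left (Nat.gcd_dvd_right _ _) h2
    exact (two_pow_dvd hF hf (by nlinarith only [hn])).trans (pow_dvd h1 (Dvd.intro _ rfl) hcop)
  · obtain ⟨f, hf, hq⟩ := exists_f_sq F hF
    left
    rw [Nat.card_congr e.toEquiv]
    have h1 := card_psu (F := F) (n := n) hF (by omega)
    have hcop : (Nat.gcd n (q + 1) * (q + 1)).Coprime q := by
      have h2 := cop_add (q := q) (k := 1) le_rfl
      rw [pow_one] at h2
      exact Nat.Coprime.mul_left (Nat.Coprime.coprime_dvd_left (Nat.gcd_dvd_right _ _) h2) h2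
    refine (two_pow_dvd hq hf ?_).trans (pow_dvd h1 (Dvd.intro _ rfl) hcop)
    rw [Nat.le_div_iff_mul_le (by norm_num)]
    obtain ⟨k, rfl⟩ : ∃ k, n = k + 6 := ⟨n - 6, by omega⟩
    have : k + 6 - 1 = k + 5 := by omega
    rw [this]
    nlinarith only []
  · obtain ⟨f, hf, hF⟩ := exists_f F
    left
    rw [Nat.card_congr e.toEquiv]
    have h1 := card_oplus (F := F) hn
    refine (two_pow_dvd hF hf ?_).trans (pow_dvd h1 (Dvd.intro _ rfl)
      (Nat.Coprime.coprime_dvd_left (Nat.gcd_dvd_right _ _) (cop_sub Fintype.card_pos (by omega))))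
    obtain ⟨k, rfl⟩ : ∃ k, n = k + 4 := ⟨n - 4, by omega⟩
    have : k + 4 - 1 = k + 3 := by omega
    rw [this]
    nlinarith only []
  · obtain ⟨f, hf, hF⟩ := exists_f F
    left
    rw [Nat.card_congr e.toEquiv]
    have h1 := card_ominus (F := F) hn hab
    refine (two_pow_dvd hF hf ?_).trans (pow_dvd h1 (Dvd.intro _ rfl)
      (Nat.Coprime.coprime_dvd_left (Nat.gcd_dvd_right _ _) (cop_add (by omega))))
    obtain ⟨k, rfl⟩ : ∃ k, n = k + 4 := ⟨n - 4, by omega⟩
    have : k + 4 - 1 = k + 3 := by omega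
    rw [this]
    nlinarith only []

/-- **`X` of Lie type of odd characteristic.** -/
theorem odd_row {p : ℕ} (hp : p.Prime) (hp2 : p ≠ 2) {X : Type u} [Group X] [Finite X] [IsSimpleGroup X]
    (hX : IsLieTypeChar p X) (x : MulAut X) (hx : x * x = 1) (A : Subgroup ↥(fixedSubgroup x)) [A.Normal]
    (hA : IsQuasisimple ↥A) (hZ : Odd (Nat.card (center ↥A))) (hS : Big2 (↥A ⧸ center ↥A)) : False := by
  have hcase : IsClassicalChar p X ∨ IsExcChar p X := by
    rcases hX with h1 | h1 | h1 | h1 | h1 | h1 | h1 | h1 | h1 | h1 | h1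
    · exact Or.inl (Or.inl h1)
    · exact Or.inl (Or.inr (Or.inl h1))
    · exact Or.inl (Or.inr (Or.inr (Or.inl h1)))
    · exact Or.inl (Or.inr (Or.inr (Or.inr (Or.inl h1))))
    · exact Or.inl (Or.inr (Or.inr (Or.inr (Or.inr (Or.inl h1)))))
    · exact Or.inl (Or.inr (Or.inr (Or.inr (Or.inr (Or.inr h1)))))
    · exact Or.inr (Or.inl h1)
    · exact Or.inr (Or.inr (Or.inl h1))
    · exact absurd h1.1 hp2
    · exact absurd h1.1 hp2
    · exact Or.inr (Or.inr (Or.inr h1))
  rcases hcase with hX | hX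
  · have hn : A.IsSubnormal := (inferInstance : A.Normal).isSubnormal
    have h1 : IsLieTypeChar p (↥A ⧸ center ↥A) :=
      CF.component (cf_lie_of_classical hp hp2 hX x hx) hn hA.2 hA.1.commutator_eq_top
    have h3 := Cfsg.Agent.H284.SepOrd.sep OrdDiv.table hp Nat.prime_two hp2 h1 hS.lieTwo
    rcases hS.card with h4 | h4 <;> rcases h3 with h3 | h3 | h3 <;> (rw [h3] at h4; revert h4; decide)
  · exact eo hp2 hX x hx A hA hZ hS

/-- The standard subgroup as a normal subgroup of the fixed points. -/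
theorem BB_normal {G : Type*} [Group G] [Finite G] {X A : Subgroup G} [X.Normal] (hA : IsStandardSubgroup A) {t : G}
    (ht : orderOf t = 2) (htA : t ∈ centralizer (A : Set G)) : (H284.FStd.BB X A t).Normal := by
  have h1 := SignalizersComponents.StandardTrichotomy.centralizer_involution_le hA ht htA
  constructor
  rintro ⟨⟨a, haX⟩, haf⟩ ha ⟨⟨g, hgX⟩, hgf⟩
  have h2 : g ∈ centralizer ({t} : Set G) := by
    rw [mem_centralizer_singleton_iff]
    exact (H284.FStd.mem_fix.1 hgf).symm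
  have h3 := h1 h2
  rw [mem_normalizer_iff] at h3
  exact (h3 a).1 ha

end Cfsg.Agent.H298.EO
end
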