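import Cfsg.Agent.H298.EOFiveTest
import Cfsg.Agent.H341.ThreeList_m3
import Cfsg.Agent.H934.OutCl
import Cfsg.Agent.Prune
set_option linter.all false
prune_inst 0x7f00000000000000000000000000000000000000000000000000000000000000000000000000000000000000000000000000000000000000000000000000000000000000000000000000000000000000003fffffffffffffffffffffffffffbeffbdffffffff
open scoped Cfsg.Agent.FastGrp

/-!
# The `r`-test for the classical groups of characteristic two: orders (helper298)
-/

set_option autoImplicit false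
set_option linter.unusedSectionVars false

namespace Cfsg.Agent.H298.EOCard

open Cfsg Cfsg.Agent.OrdDiv Cfsg.Agent.H298.EOArith Cfsg.Agent.H298.EOAlm

/-- The row of a simple group: no almost simple group with this socle has a split (B,N)-pair of odd characteristic,
except perhaps for characteristic `3` (if `b ≠ 0`); the order is divisible by `3`. -/
structure Row (b : ℕ) (K : Type*) [Group K] : Prop where
  kill : ∀ p : ℕ, p.Prime → p ≠ 2 → Almost p K → p = 3 ∧ b ≠ 0
  three : 3 ∣ Nat.card K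

theorem Row.congr {b : ℕ} {K : Type*} [Group K] {L : Type*} [Group L] (e : K ≃* L) (h : Row b K) : Row b L :=
  ⟨fun p hp hp2 hA => h.kill p hp hp2 (hA.congr e.symm), Nat.card_congr e.toEquiv ▸ h.three⟩

theorem row_of {N M a b : ℕ} {l : List (ℕ × ℕ × ℕ)} (h : chk N M a b l = true) {K : Type*} [Group K] [Finite K]
    [IsSimpleGroup K] (hna : ¬ IsMulCommutative K) (hN : Nat.card K = N) (hM : Nat.card (MulAut K) = M) : Row b K :=
  ⟨fun _ hp hp2 hY => kill h hna hN hM hp hp2 hY, hN ▸ three_dvd h⟩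

section

variable {F : Type*} [Field F] [Fintype F]

theorem card_psl {n : ℕ} (hn : 2 ≤ n) : Nat.gcd n (Fintype.card F - 1) * (Fintype.card F - 1) *
    Nat.card (Matrix.ProjectiveSpecialLinearGroup (Fin n) F) = glN n (Fintype.card F) := by
  have h := S0243.result (F := F) rfl n hn
  rw [Fin.prod_univ_eq_prod_range (fun i => Fintype.card F ^ n - Fintype.card F ^ i) n, ← prod_list] at h
  rw [mul_assoc]
  exact h

theorem card_psp {m : ℕ} (hm : 1 ≤ m) :
    Nat.gcd 2 (Fintype.card F - 1) * Nat.card (PSp m F) = Fintype.card F ^ (m ^ 2) * prB (Fintype.card F) m := by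
  have h1 := S0245.result (F := F) rfl m
  have h2 := S0246.result (F := F) rfl m (by omega)
  have h3 := Subgroup.card_eq_card_quotient_mul_card_subgroup
    (Subgroup.center (Matrix.symplecticGroup (Fin m) F))
  rw [← prod_list (fun i => Fintype.card F ^ (2 * (i + 1)) - 1)] at h1
  rw [h1, h2] at h3
  change Nat.gcd 2 (Fintype.card F - 1) * Nat.card (PSp m F) = Fintype.card F ^ (m ^ 2) * prB (Fintype.card F) m
  rw [mul_comm]
  exact h3.symm

theorem card_psu {n q : ℕ} (hF : Fintype.card F = q ^ 2) (hn : 2 ≤ n) :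
    Nat.gcd n (q + 1) * (q + 1) * Nat.card (PSU n F q) = q ^ (n * (n - 1) / 2) * prU q n := by
  have h := S0280.result hF n hn
  rw [← prod_list] at h
  have h2 : prU q n = ((List.range n).map fun i => if Even i then q ^ (i + 1) + 1 else q ^ (i + 1) - 1).prod := by
    unfold prU
    congr 1
    apply List.map_congr_left
    intro i _
    by_cases h : Even i
    · rw [if_pos h, if_pos]
      rw [Nat.beq_eq]
      exact Nat.even_iff.1 h
    · rw [if_neg h, if_neg]
      rw [Nat.beq_eq, ← Nat.even_iff]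
      exact h
  rw [h2, mul_assoc]
  exact h

theorem card_oplus {m : ℕ} (hm : 4 ≤ m) : Nat.gcd 4 (Fintype.card F ^ m - 1) * Nat.card (POmega F (quadFormPlus m F)) =
    Fintype.card F ^ (m * (m - 1)) * ((Fintype.card F ^ m - 1) * prB (Fintype.card F) (m - 1)) := by
  have h := S0293.result (F := F) rfl m hm
  rw [← prod_list (fun i => Fintype.card F ^ (2 * (i + 1)) - 1)] at h
  rw [← mul_assoc (Fintype.card F ^ (m * (m - 1)))]
  exact h

theorem card_ominus {m : ℕ} (hm : 4 ≤ m) {a b : F}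
    (hab : ∀ z₁ z₂ : F, z₁ ^ 2 + a * z₁ * z₂ + b * z₂ ^ 2 = 0 → z₁ = 0 ∧ z₂ = 0) :
    Nat.gcd 4 (Fintype.card F ^ m + 1) * Nat.card (POmega F (quadFormMinus (m - 1) F a b)) =
      Fintype.card F ^ (m * (m - 1)) * ((Fintype.card F ^ m + 1) * prB (Fintype.card F) (m - 1)) := by
  have h := S0294.result (F := F) rfl m hm a b hab
  rw [← prod_list (fun i => Fintype.card F ^ (2 * (i + 1)) - 1)] at h
  rw [← mul_assoc (Fintype.card F ^ (m * (m - 1)))]
  exact h

theorem eq_of {d c n N : ℕ} (h : d * c = n) (hN : d * N = n) (hd : 0 < d) : c = N :=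
  Nat.eq_of_mul_eq_mul_left hd (h.trans hN.symm)

/-! ### rows -/

theorem psl_row {n q f N a b : ℕ} {l : List (ℕ × ℕ × ℕ)} (hF : Fintype.card F = q) (hq : q = 2 ^ f) (hf : 1 ≤ f)
    (hn : 3 ≤ n) (hd : Nat.beq (Nat.gcd n (q - 1) * (q - 1) * N) (glN n q) = true)
    (h : chk N (2 * f * (Nat.gcd n (q - 1) * N)) a b l = true)
    (hs : IsSimpleGroup (Matrix.ProjectiveSpecialLinearGroup (Fin n) F))
    (hna : ¬ IsMulCommutative (Matrix.ProjectiveSpecialLinearGroup (Fin n) F)) :
    Row b (Matrix.ProjectiveSpecialLinearGroup (Fin n) F) := by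
  have : Fact (Nat.Prime 2) := ⟨Nat.prime_two⟩
  have : Finite (Matrix.ProjectiveSpecialLinearGroup (Fin n) F) := Quotient.finite _
  have h2 : 2 ≤ q := by rw [← hF]; exact Fintype.one_lt_card
  have hN : Nat.card (Matrix.ProjectiveSpecialLinearGroup (Fin n) F) = N := by
    refine eq_of (card_psl (F := F) (n := n) (by omega)) (by rw [hF]; exact Nat.eq_of_beq_eq_true hd) ?_
    rw [hF]
    exact Nat.mul_pos (Nat.gcd_pos_of_pos_left _ (by omega)) (by omega)
  refine row_of h hna hN ?_
  rw [S0813.result (F := F) 2 f hf (hF.trans hq) n (by omega) (by omega), if_neg (by omega),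
    H934.OutCl.card_pgl (by omega), hN, hF]

theorem psp_row {m q f N a b : ℕ} {l : List (ℕ × ℕ × ℕ)} (hF : Fintype.card F = q) (hq : q = 2 ^ f) (hf : 1 ≤ f)
    (hm : 3 ≤ m) (hd : Nat.beq N (q ^ (m ^ 2) * prB q m) = true)
    (h : chk N (f * N) a b l = true)
    (hs : IsSimpleGroup (PSp m F)) (hna : ¬ IsMulCommutative (PSp m F)) : Row b (PSp m F) := by
  have : Fact (Nat.Prime 2) := ⟨Nat.prime_two⟩
  have : Finite (PSp m F) := Quotient.finite _
  have hg : Nat.gcd 2 (2 ^ f - 1) = 1 := by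
    have h6 : Odd (2 ^ f - 1) := by
      obtain ⟨k, rfl⟩ : ∃ k, f = k + 1 := ⟨f - 1, by omega⟩
      have : 0 < 2 ^ k := by positivity
      rw [pow_succ]
      exact ⟨2 ^ k - 1, by omega⟩
    exact (Nat.coprime_two_left.2 h6)
  have hN : Nat.card (PSp m F) = N := by
    have h1 := card_psp (F := F) (m := m) (by omega)
    rw [hF, hq, hg, one_mul] at h1
    rw [h1, ← hq]
    exact (Nat.eq_of_beq_eq_true hd).symm
  refine row_of h hna hN ?_
  rw [S0814.result (F := F) 2 f hf (hF.trans hq) m (by omega) (by omega), if_neg (by omega), hg, hN, mul_one, one_mul]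

theorem psu_row {n q f N a b : ℕ} {l : List (ℕ × ℕ × ℕ)} (hF : Fintype.card F = q ^ 2) (hq : q = 2 ^ f) (hf : 1 ≤ f)
    (hn : 4 ≤ n) (hd : Nat.beq (Nat.gcd n (q + 1) * (q + 1) * N) (q ^ (n * (n - 1) / 2) * prU q n) = true)
    (h : chk N (Nat.gcd n (q + 1) * (2 * f) * N) a b l = true)
    (hs : IsSimpleGroup (PSU n F q)) (hna : ¬ IsMulCommutative (PSU n F q)) : Row b (PSU n F q) := by
  have : Fact (Nat.Prime 2) := ⟨Nat.prime_two⟩
  have : Finite (PSU n F q) := Quotient.finite _
  have hN : Nat.card (PSU n F q) = N := by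
    refine eq_of (card_psu (F := F) (n := n) hF (by omega)) (Nat.eq_of_beq_eq_true hd) ?_
    exact Nat.mul_pos (Nat.gcd_pos_of_pos_left _ (by omega)) (by omega)
  refine row_of h hna hN ?_
  rw [S0815.result (F := F) 2 f hf hq hF n (by omega) (by omega), hN]

theorem oplus_row {m q f N a b : ℕ} {l : List (ℕ × ℕ × ℕ)} (hF : Fintype.card F = q) (hq : q = 2 ^ f) (hf : 1 ≤ f)
    (hm : 4 ≤ m) (hd : Nat.beq (Nat.gcd 4 (q ^ m - 1) * N) (q ^ (m * (m - 1)) * ((q ^ m - 1) * prB q (m - 1))) = true)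
    (h : chk N ((if m = 4 then 3 else 1) * 2 * f * N) a b l = true)
    (hs : IsSimpleGroup (POmega F (quadFormPlus m F))) (hna : ¬ IsMulCommutative (POmega F (quadFormPlus m F))) :
    Row b (POmega F (quadFormPlus m F)) := by
  have : Fact (Nat.Prime 2) := ⟨Nat.prime_two⟩
  have : Finite (POmega F (quadFormPlus m F)) := Quotient.finite _
  have hN : Nat.card (POmega F (quadFormPlus m F)) = N := by
    refine eq_of (card_oplus (F := F) hm) (by rw [hF]; exact Nat.eq_of_beq_eq_true hd) ?_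
    exact Nat.gcd_pos_of_pos_left _ (by omega)
  refine row_of h hna hN ?_
  rw [S0817.result (F := F) 2 f hf (hF.trans hq) m hm, hN, if_pos rfl]

theorem ominus_row {m q f N a b : ℕ} {l : List (ℕ × ℕ × ℕ)} (hF : Fintype.card F = q) (hq : q = 2 ^ f) (hf : 1 ≤ f)
    (hm : 4 ≤ m) (hd : Nat.beq (Nat.gcd 4 (q ^ m + 1) * N) (q ^ (m * (m - 1)) * ((q ^ m + 1) * prB q (m - 1))) = true)
    (h : chk N (2 * f * N) a b l = true) {α β : F}
    (hab : ∀ z₁ z₂ : F, z₁ ^ 2 + α * z₁ * z₂ + β * z₂ ^ 2 = 0 → z₁ = 0 ∧ z₂ = 0)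
    (hs : IsSimpleGroup (POmega F (quadFormMinus (m - 1) F α β)))
    (hna : ¬ IsMulCommutative (POmega F (quadFormMinus (m - 1) F α β))) :
    Row b (POmega F (quadFormMinus (m - 1) F α β)) := by
  have : Fact (Nat.Prime 2) := ⟨Nat.prime_two⟩
  have : Finite (POmega F (quadFormMinus (m - 1) F α β)) := Quotient.finite _
  have hN : Nat.card (POmega F (quadFormMinus (m - 1) F α β)) = N := by
    refine eq_of (card_ominus (F := F) hm hab) (by rw [hF]; exact Nat.eq_of_beq_eq_true hd) ?_
    exact Nat.gcd_pos_of_pos_left _ (by omega)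
  refine row_of h hna hN ?_
  rw [S0818.result (F := F) 2 f hf (hF.trans hq) m hm α β hab, hN, if_pos rfl]

end

end Cfsg.Agent.H298.EOCard
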